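import Cfsg.Agent.H26.StronglyEmbedded
import Cfsg.Agent.H39.Basic
import Cfsg.Agent.H39.Dihedral
import Cfsg.Agent.Components.PLocal

/-!
A proper subgroup containing a Sylow 2-normalizer and the centralizers of the involutions of that
Sylow 2-subgroup is strongly embedded.
-/

set_option autoImplicit false

namespace Cfsg.Agent.H70.Balanced

open Subgroup

universe u

variable {G : Type u} [Group G] [Finite G]

theorem isStronglyEmbedded_of_centralizer_le {M : Subgroup G} (hM : M ≠ ⊤) (S : Sylow 2 G)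
    (hS : (S : Subgroup G) ≠ ⊥) (hN : normalizer ((S : Subgroup G) : Set G) ≤ M)
    (hC : ∀ x ∈ (S : Subgroup G), orderOf x = 2 → centralizer ({x} : Set G) ≤ M) :
    Cfsg.IsStronglyEmbedded M := by
  haveI : Fact (Nat.Prime 2) := ⟨Nat.prime_two⟩
  have hSM : (S : Subgroup G) ≤ M := Subgroup.le_normalizer.trans hN
  obtain ⟨z, hzS, hzo, hzc⟩ := Components.exists_central_orderOf S.isPGroup' hS
  have heven : Even (Nat.card M) := by
    rw [even_iff_two_dvd, ← hzo]
    exact Subgroup.orderOf_dvd_natCard M (hSM hzS)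
  -- centralizers of all involutions of `M`
  have hCM : ∀ x ∈ M, orderOf x = 2 → centralizer ({x} : Set G) ≤ M := by
    intro x hxM hx c hc
    have hR : IsPGroup 2 ↥(zpowers x) :=
      IsPGroup.of_card (n := 1) (by rw [Nat.card_zpowers, hx, pow_one])
    obtain ⟨m, hm, hmS⟩ := H39.exists_conj_mem_le_sylow hR (zpowers_le.2 hxM) S hSM
    have h1 : m * c * m⁻¹ ∈ M := hC _ (hmS x (mem_zpowers x)) (by rw [H26.orderOf_conj_eq, hx])
      (mem_centralizer_singleton_iff.2 (by
        have h2 := mem_centralizer_singleton_iff.1 hc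
        calc m * c * m⁻¹ * (m * x * m⁻¹) = m * (c * x) * m⁻¹ := by group
          _ = m * (x * c) * m⁻¹ := by rw [h2]
          _ = m * x * m⁻¹ * (m * c * m⁻¹) := by group))
    simpa [mul_assoc] using mul_mem (mul_mem (inv_mem hm) h1) hm
  -- conjugates of `z` in `M`
  have key : ∀ g : G, g * z * g⁻¹ ∈ M → g ∈ M := by
    intro g hg
    set c := (MulAut.conj g).toMonoidHom
    have hle : (S : Subgroup G).map c ≤ M := by
      rintro _ ⟨s, hs, rfl⟩
      refine hCM _ hg (by rw [H26.orderOf_conj_eq, hzo]) (mem_centralizer_singleton_iff.2 ?_)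
      have h2 : s * z = z * s := mem_centralizer_singleton_iff.1 (hzc hs)
      calc g * s * g⁻¹ * (g * z * g⁻¹) = g * (s * z) * g⁻¹ := by group
        _ = g * (z * s) * g⁻¹ := by rw [h2]
        _ = g * z * g⁻¹ * (g * s * g⁻¹) := by group
    obtain ⟨m, hm, hmS⟩ := H39.exists_conj_mem_le_sylow (S.isPGroup'.map c) hle S hSM
    have h2 : m * g ∈ normalizer ((S : Subgroup G) : Set G) := H39.mem_normalizer_of_conj_mem fun s hs => by
      simpa [c, mul_assoc] using hmS (c s) (mem_map_of_mem c hs)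
    simpa [mul_assoc] using mul_mem (inv_mem hm) (hN h2)
  obtain ⟨g₀, -, hg₀⟩ := SetLike.not_le_iff_exists.1 (fun h : (⊤ : Subgroup G) ≤ M => hM (top_le_iff.1 h))
  set u := g₀ * z * g₀⁻¹ with hu
  have huM : u ∉ M := fun h => hg₀ (key g₀ h)
  have huo : orderOf u = 2 := by rw [hu, H26.orderOf_conj_eq, hzo]
  rw [H26.isStronglyEmbedded_iff_involution M hM heven]
  intro x hxM hx k hk
  have hodd : Odd (orderOf (u * x)) := by
    rw [← Nat.not_even_iff_odd]
    intro he
    obtain ⟨w, hwo, -, hwx, hwu⟩ := H39.exists_central_involution hx huo he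
    have hwM : w ∈ M := hCM x hxM hx (mem_centralizer_singleton_iff.2 hwx.eq)
    exact huM (hCM w hwM hwo (mem_centralizer_singleton_iff.2 hwu.symm.eq))
  have hconj : IsConj u x := H26.isConj_of_odd (by rw [← pow_two, ← huo, pow_orderOf_eq_one])
    (by rw [← pow_two, ← hx, pow_orderOf_eq_one]) hodd
  obtain ⟨h₀, hh₀⟩ := isConj_iff.1 hconj
  have hx' : (h₀ * g₀) * z * (h₀ * g₀)⁻¹ = x := by rw [← hh₀, hu]; group
  have hh : h₀ * g₀ ∈ M := key _ (hx'.symm ▸ hxM)
  have hk' : k * (h₀ * g₀) ∈ M := key _ (by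
    have h3 : k * (h₀ * g₀) * z * (k * (h₀ * g₀))⁻¹ = k * x * k⁻¹ := by rw [← hx']; group
    rw [h3]; exact hk)
  exact (M.mul_mem_cancel_right hh).1 hk'

end Cfsg.Agent.H70.Balanced
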