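import Cfsg.Agent.H70.Balanced.Constrained
import Cfsg.Agent.H30.ConnectedCores
import Cfsg.Agent.S0502

/-!
The statements behind S3109, S0504, S3332 and the connected half of S1291, given that the core of
a strongly embedded subgroup lies in the core of the group.
-/

set_option autoImplicit false
set_option linter.unusedSectionVars false

namespace Cfsg.Agent.H70.Balanced

open Subgroup Cfsg.Agent.Fusion.Signalizer
open Cfsg (centralizerPPrimeCore)

universe u

variable {G : Type u} [Group G] [Finite G]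

local instance : Fact (Nat.Prime 2) := ⟨Nat.prime_two⟩

theorem not_pRankLE_of_eight {A : Subgroup G} (hA : Cfsg.IsElementaryAbelian 2 A)
    (hA8 : 8 ≤ Nat.card A) : ¬ Cfsg.PRankLE 2 2 G := fun h => by
  have h1 := h A hA.1 hA.2
  omega

/-- A normal abelian subgroup of rank at least 3 of a Sylow 2-subgroup. -/
theorem linked_of_scn_three (S : Sylow 2 G) (A : Subgroup ↥(S : Subgroup G)) (hAn : A.Normal)
    (hAab : IsMulCommutative ↥A) (hA3 : ¬ Cfsg.PRankLE 2 2 ↥A) :
    Linked (S : Subgroup G) ∧ ¬ Cfsg.PRankLE 2 2 G := by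
  obtain ⟨E, hES, hSE, hE, hE8⟩ := H30.ConnectedCores.exists_normal_elementary A hAn hAab hA3
  haveI : (E.subgroupOf (S : Subgroup G)).Normal := (normal_subgroupOf_iff_le_normalizer hES).2 hSE
  refine ⟨linked_of_isFourConnected (Cfsg.Agent.S0502.result S.isPGroup' (E.subgroupOf (S : Subgroup G))
    ⟨⟨fun a b => Subtype.ext (Subtype.ext (H36.NilPPrime.elem_comm hE a.2 b.2))⟩⟩
    (fun e he => Subtype.ext (by simpa using hE.2 _ he))
    (by rwa [Nat.card_congr (subgroupOfEquivOfLe hES).toEquiv])), not_pRankLE_of_eight hE hE8⟩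

theorem oddCore_eq_bot_of_simple [IsSimpleGroup G] (hG : ¬ IsMulCommutative G) :
    Cfsg.oddCore G = ⊥ := by
  rcases (show (Cfsg.oddCore G).Normal from inferInstance).eq_bot_or_eq_top with h | h
  · exact h
  · exfalso
    have h1 : Odd (Nat.card G) := by
      have := Cores.odd_card_oddCore (G := G)
      rwa [h, card_top] at this
    haveI := Cfsg.Agent.S0205.result h1
    exact hG ⟨⟨fun a b => IsSimpleGroup.comm_iff_isSolvable.2 inferInstance a b⟩⟩

theorem isPConstrained_of_not_componentType (hc : ¬ Cfsg.IsComponentType G) {t : G}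
    (ht : orderOf t = 2) : Cfsg.IsPConstrained 2 ↥(centralizer ({t} : Set G)) := by
  rw [Components.isPConstrained_iff_pLayer, Components.pLayer_eq_bot_iff, Components.layer_eq_bot_iff]
  exact fun L hL => hc ⟨t, ht, L, hL.1, hL.2⟩

variable (hB : ∀ H : Subgroup G, Cfsg.IsStronglyEmbedded H →
  (Cfsg.oddCore ↥H).map H.subtype ≤ Cfsg.oddCore G)

include hB in
/-- The statement of S3109. -/
theorem cores_trivial_of_two_constrained_locals [IsSimpleGroup G] (hG : ¬ IsMulCommutative G)
    (h2c : ∀ T : Subgroup G, IsPGroup 2 T → T ≠ ⊥ →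
      Cfsg.IsPConstrained 2 ↥(normalizer (T : Set G)))
    (S : Sylow 2 G) (A : Subgroup ↥(S : Subgroup G)) (hAn : A.Normal) (hAab : IsMulCommutative ↥A)
    (hA3 : ¬ Cfsg.PRankLE 2 2 ↥A) (t : G) (ht : orderOf t = 2) :
    centralizerPPrimeCore 2 t = ⊥ := by
  obtain ⟨hS, hrank⟩ := linked_of_scn_three S A hAn hAab hA3
  exact core_eq_bot_of_constrained (oddCore_eq_bot_of_simple hG) hrank S hS
    (fun u hu => H30.ConnectedCores.constrained h2c hu) hB ht

include hB in
/-- The statement of S0504. -/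
theorem isCharacteristicTwoType (h3 : ¬ Cfsg.PRankLE 2 2 G) (hO : Cfsg.oddCore G = ⊥)
    (hc : ¬ Cfsg.IsComponentType G) (S : Sylow 2 G) (hS : Cfsg.IsFourConnected (S : Subgroup G)) :
    Cfsg.IsCharacteristicTwoType G := by
  obtain ⟨A, hAS, hA, hA8⟩ := exists_eight h3 S
  refine ⟨?_, fun T hT hT1 => ?_⟩
  · rw [even_iff_two_dvd]
    obtain ⟨U, hUA, hU⟩ := exists_four_le hA (by omega)
    exact (show 2 ∣ 4 by norm_num).trans (hU.2.symm.dvd.trans (Subgroup.card_subgroup_dvd_card U))
  refine Components.genFitting_eq_pCore_iff.1 (Components.genFitting_normalizer_of_centralizers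
    (fun t ht => Components.genFitting_eq_pCore_iff.2 ?_) hT hT1)
  have h := core_eq_bot_of_constrained hO h3 S (linked_of_isFourConnected hS)
    (fun u hu => isPConstrained_of_not_componentType hc hu) hB ht
  rw [Cfsg.centralizerPPrimeCore, map_eq_bot_iff_of_injective _ (subtype_injective _)] at h
  exact (Cores.isPConstrained_iff_of_pPrimeCore_eq_bot h).1 (isPConstrained_of_not_componentType hc ht)

include hB in
/-- The statement of S3332. -/
theorem solvable_centralizers_cores_trivial (hO : Cfsg.oddCore G = ⊥) (S : Sylow 2 G)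
    (A : Subgroup G) (hAS : A ≤ S) (hAn : (A.subgroupOf S).Normal) (hAc : IsMulCommutative A)
    (hA3 : ¬ Cfsg.PRankLE 2 2 A)
    (hsol : ∀ t : G, orderOf t = 2 → Group.IsSolvable (centralizer ({t} : Set G)))
    (t : G) (ht : orderOf t = 2) : Cfsg.oddCore (centralizer ({t} : Set G)) = ⊥ := by
  obtain ⟨D, hDA, hD, hD8⟩ := exists_elementary_of_not_pRankLE (p := 2) hA3
  have h8 : 8 ≤ Nat.card ↥(D.subgroupOf (S : Subgroup G)) := by
    rw [Nat.card_congr (subgroupOfEquivOfLe (hDA.trans hAS)).toEquiv]; simpa using hD8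
  have hA3' : ¬ Cfsg.PRankLE 2 2 ↥(A.subgroupOf (S : Subgroup G)) :=
    not_pRankLE_of_le (show D.subgroupOf (S : Subgroup G) ≤ A.subgroupOf S from fun x hx => hDA hx)
      ⟨⟨⟨fun a b => Subtype.ext (Subtype.ext (H36.NilPPrime.elem_comm hD a.2 b.2))⟩⟩,
        fun a ha => Subtype.ext (by simpa using hD.2 _ ha)⟩ (by simpa using h8)
  obtain ⟨hS, hrank⟩ := linked_of_scn_three S (A.subgroupOf (S : Subgroup G)) hAn
    ⟨⟨fun a b => Subtype.ext (Subtype.ext
      (by simpa using congrArg Subtype.val (hAc.1.comm ⟨((a : ↥(S : Subgroup G)) : G), a.2⟩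
        ⟨((b : ↥(S : Subgroup G)) : G), b.2⟩)))⟩⟩ hA3'
  have h := core_eq_bot_of_constrained hO hrank S hS (fun u hu => by
    haveI := hsol u hu
    exact Cores.isPConstrained_of_isPSolvable Cores.isPSolvable_of_isSolvable) hB ht
  rw [Cfsg.centralizerPPrimeCore, map_eq_bot_iff_of_injective _ (subtype_injective _)] at h
  exact h

/-- The first case of S1291: the four-group graph of `G` is connected. -/
theorem balanced_cores_trivial_of_connected (hbal : Cfsg.IsBalanced G) (hO : Cfsg.oddCore G = ⊥)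
    (hrank : ¬ Cfsg.PRankLE 2 2 G) (hconn : Cfsg.IsFourConnected G) {t : G} (ht : orderOf t = 2) :
    centralizerPPrimeCore 2 t = ⊥ :=
  eq_bot_of_linked_top hO hrank (linked_top_of_isFourConnected hconn)
    (core_functor_of_balanced fun a b ha hb hab => (hbal a b ha hb hab).le.trans inf_le_left) ht

end Cfsg.Agent.H70.Balanced
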