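import Cfsg.Agent.H70.Balanced.Graph
import Cfsg.Agent.H70.Balanced.Criterion

/-!
Connected four-group graph of a Sylow 2-subgroup: one closure `W`, and its normalizer.
-/

set_option autoImplicit false
set_option linter.unusedSectionVars false

namespace Cfsg.Agent.H70.Balanced

open Subgroup Cfsg.Agent.Fusion.Signalizer

universe u

variable {G : Type u} [Group G] [Finite G] {θ : G → Subgroup G}

local instance : Fact (Nat.Prime 2) := ⟨Nat.prime_two⟩

/-- A Sylow 2-subgroup with connected four-group graph and rank at least 3, and a functor. -/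
structure Ctx (θ : G → Subgroup G) (S : Sylow 2 G) (U₀ : Subgroup G) : Prop where
  linked : Linked (S : Subgroup G)
  rank : ¬ Cfsg.PRankLE 2 2 G
  fn : IsBalancedFunctor θ
  four : Four U₀
  base_le : U₀ ≤ (S : Subgroup G)

variable {S : Sylow 2 G} {U₀ : Subgroup G}

theorem exists_ctx (hS : Linked (S : Subgroup G)) (hrank : ¬ Cfsg.PRankLE 2 2 G)
    (hθ : IsBalancedFunctor θ) : ∃ U₀, Ctx θ S U₀ := by
  obtain ⟨A, hAS, hA, hA8⟩ := exists_eight hrank S
  obtain ⟨U, hUA, hU⟩ := exists_four_le hA (by omega)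
  exact ⟨U, hS, hrank, hθ, hU, hUA.trans hAS⟩

namespace Ctx

theorem good (c : Ctx θ S U₀) {a : G} (ha : orderOf a = 2) : Good 2 a := by
  obtain ⟨g, hg⟩ := H39.exists_conj_le_sylow
    (IsPGroup.of_card (n := 1) (by rw [Nat.card_zpowers, ha, pow_one]) : IsPGroup 2 (zpowers a)) S
  obtain ⟨A, hAS, hA, hA8⟩ := exists_eight c.rank S
  obtain ⟨D, -, haD, hD, hD8⟩ := exists_eight_mem S.isPGroup' c.linked hA hA8 hAS
    (x := g * a * g⁻¹) (by rw [H26.orderOf_conj_eq, ha]) (hg a (mem_zpowers a))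
  exact good_of_mem (H36.NilPPrime.elem_map hD g⁻¹) (by rwa [H39.card_map_conj])
    ⟨g * a * g⁻¹, haD, by simp [mul_assoc]⟩ fun h => by rw [h, orderOf_one] at ha; omega

theorem good_four (c : Ctx θ S U₀) {U : Subgroup G} (hU : Four U) :
    ∀ a ∈ U, a ≠ 1 → Good 2 a := fun a ha h1 => c.good (orderOf_eq_prime (hU.1.2 a ha) h1)

/-- Four-groups of one 2-subgroup have the same closure. -/
theorem gen_const (c : Ctx θ S U₀) {Q U V : Subgroup G} (hQ : IsPGroup 2 Q) (hU : Four U)
    (hV : Four V) (hUQ : U ≤ Q) (hVQ : V ≤ Q) : gen θ U = gen θ V := by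
  obtain ⟨g, hg⟩ := H39.exists_conj_le_sylow hQ S
  have hle : ∀ {W : Subgroup G}, W ≤ Q → W.map (MulAut.conj g).toMonoidHom ≤ (S : Subgroup G) := by
    rintro W hW _ ⟨w, hw, rfl⟩
    exact hg w (hW hw)
  have h := gen_linked c.fn c.linked (four_map hU g) (four_map hV g) (hle hUQ) (hle hVQ)
  rw [gen_map c.fn (c.good_four hU), gen_map c.fn (c.good_four hV)] at h
  exact map_injective (MulAut.conj g).injective h

theorem gen_base (c : Ctx θ S U₀) {U : Subgroup G} (hU : Four U) (hUS : U ≤ (S : Subgroup G)) :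
    gen θ U = gen θ U₀ := gen_linked c.fn c.linked hU c.four hUS c.base_le

theorem odd (c : Ctx θ S U₀) : Odd (Nat.card ↥(gen θ U₀)) := by
  obtain ⟨A, hAS, hA, hA8⟩ := exists_eight c.rank S
  obtain ⟨D, hUD, -, hD, hD8⟩ := four_le_eight c.linked hA hA8 hAS c.four c.base_le
  rw [← Nat.not_even_iff_odd, even_iff_two_dvd]
  exact (gen_eq_gen c.fn hD hD8 hUD c.four.2.ge).2

theorem le_base (c : Ctx θ S U₀) {x : G} (hx : orderOf x = 2) (hxS : x ∈ (S : Subgroup G)) :
    θ x ≤ gen θ U₀ := by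
  obtain ⟨A, hAS, hA, hA8⟩ := exists_eight c.rank S
  obtain ⟨U, hUS, hxU, hU⟩ := exists_four_mem S.isPGroup' hA (by omega) hAS hx hxS
  rw [← c.gen_base hU hUS]
  exact le_gen hxU fun h => by rw [h, orderOf_one] at hx; omega

/-- A subgroup normalizing a 2-group that holds a four-group of closure `W` normalizes `W`. -/
theorem normalizer_le (c : Ctx θ S U₀) {Q U : Subgroup G} (hQ : IsPGroup 2 Q) (hU : Four U)
    (hUQ : U ≤ Q) (hW : gen θ U = gen θ U₀) :
    normalizer (Q : Set G) ≤ normalizer (gen θ U₀ : Set G) := fun n hn => by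
  rw [H39.mem_normalizer_iff_map_conj, ← hW, ← gen_map c.fn (c.good_four hU)]
  refine c.gen_const hQ (four_map hU n) hU ?_ hUQ
  rintro _ ⟨u, hu, rfl⟩
  exact (mem_normalizer_iff.1 hn u).1 (hUQ hu)

theorem sylow_normalizer_le (c : Ctx θ S U₀) :
    normalizer ((S : Subgroup G) : Set G) ≤ normalizer (gen θ U₀ : Set G) :=
  c.normalizer_le S.isPGroup' c.four c.base_le rfl

theorem sylow_ne_bot (c : Ctx θ S U₀) : (S : Subgroup G) ≠ ⊥ := fun h => by
  have h1 := card_le_of_le c.base_le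
  rw [h, card_bot, c.four.2] at h1
  omega

/-- Either the closure is trivial or its normalizer is strongly embedded. -/
theorem closure_cases (c : Ctx θ S U₀) (hO : Cfsg.oddCore G = ⊥)
    (hcent : ∀ x ∈ (S : Subgroup G), orderOf x = 2 →
      centralizer ({x} : Set G) ≤ normalizer (gen θ U₀ : Set G)) :
    gen θ U₀ = ⊥ ∨ Cfsg.IsStronglyEmbedded (normalizer (gen θ U₀ : Set G)) := by
  by_cases h : normalizer (gen θ U₀ : Set G) = ⊤
  · haveI : (gen θ U₀).Normal := normalizer_eq_top_iff.1 h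
    exact Or.inl (le_bot_iff.1 ((Cores.le_oddCore c.odd).trans hO.le))
  · exact Or.inr (isStronglyEmbedded_of_centralizer_le h S c.sylow_ne_bot c.sylow_normalizer_le hcent)

theorem eq_bot (c : Ctx θ S U₀) (hO : Cfsg.oddCore G = ⊥)
    (hB : ∀ H : Subgroup G, Cfsg.IsStronglyEmbedded H →
      (Cfsg.oddCore ↥H).map H.subtype ≤ Cfsg.oddCore G)
    (hcent : ∀ x ∈ (S : Subgroup G), orderOf x = 2 →
      centralizer ({x} : Set G) ≤ normalizer (gen θ U₀ : Set G))
    {t : G} (ht : orderOf t = 2) : θ t = ⊥ := by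
  have hW : gen θ U₀ = ⊥ := by
    rcases c.closure_cases hO hcent with h | h
    · exact h
    set W := gen θ U₀
    set M := normalizer (W : Set G)
    haveI : (W.subgroupOf M).Normal := normal_in_normalizer
    have h1 : W.subgroupOf M ≤ Cfsg.oddCore ↥M := Cores.le_oddCore (by
      rw [Nat.card_congr (subgroupOfEquivOfLe Subgroup.le_normalizer).toEquiv]; exact c.odd)
    refine le_bot_iff.1 (((?_ : W ≤ (Cfsg.oddCore ↥M).map M.subtype).trans (hB M h)).trans hO.le)
    exact fun w hw => ⟨⟨w, Subgroup.le_normalizer hw⟩, h1 hw, rfl⟩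
  obtain ⟨g, hg⟩ := H39.exists_conj_le_sylow
    (IsPGroup.of_card (n := 1) (by rw [Nat.card_zpowers, ht, pow_one]) : IsPGroup 2 (zpowers t)) S
  have h := c.le_base (x := g * t * g⁻¹) (by rw [H26.orderOf_conj_eq, ht]) (hg t (mem_zpowers t))
  rw [hW, le_bot_iff, c.fn.conj t g (c.good ht)] at h
  exact (map_eq_bot_iff_of_injective _ (MulAut.conj g).injective).1 h

end Ctx

end Cfsg.Agent.H70.Balanced
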