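import Cfsg.Agent.H70.Balanced.CharTwoRank
import Cfsg.Agent.Signalizer.Main
import Cfsg.Agent.Signalizer.Corollaries
import Cfsg.Agent.H36.NilPPrime.Embedded
import Cfsg.Agent.S0205

/-!
Equivariant balanced functors on involutions and the commuting graph of four-groups.
-/

set_option autoImplicit false
set_option linter.unusedSectionVars false

namespace Cfsg.Agent.H70.Balanced

open Subgroup Cfsg.Agent.Fusion.Signalizer
open scoped Pointwise

universe u

variable {G : Type u} [Group G] [Finite G]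

local instance : Fact (Nat.Prime 2) := ⟨Nat.prime_two⟩

/-- An elementary abelian subgroup of order 4. -/
def Four (U : Subgroup G) : Prop := Cfsg.IsElementaryAbelian 2 U ∧ Nat.card U = 4

/-- The four-groups inside `S` are joined by chains of commuting four-groups inside `S`. -/
def Linked (S : Subgroup G) : Prop :=
  ∀ U V : Subgroup G, U ≤ S → V ≤ S → Four U → Four V →
    Relation.ReflTransGen (fun A B : Subgroup G =>
      Four A ∧ Four B ∧ A ≤ S ∧ B ≤ S ∧ ∀ a ∈ A, ∀ b ∈ B, a * b = b * a) U V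

/-- The hypotheses on the functor. -/
structure IsBalancedFunctor (θ : G → Subgroup G) : Prop where
  le_centralizer : ∀ a, Good 2 a → θ a ≤ centralizer ({a} : Set G)
  not_dvd : ∀ a, Good 2 a → ¬ 2 ∣ Nat.card ↥(θ a)
  conj : ∀ a g, Good 2 a → θ (g * a * g⁻¹) = (θ a).map (MulAut.conj g).toMonoidHom
  balance : ∀ a b, Good 2 a → Good 2 b → a * b = b * a → θ a ⊓ centralizer {b} ≤ θ b

theorem klein_iff {S : Subgroup G} {U : Subgroup ↥S} :
    IsKleinFour U ↔ Four (U.map S.subtype) := by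
  constructor
  · intro h
    refine ⟨⟨⟨⟨?_⟩⟩, ?_⟩, by rw [card_map_of_injective S.subtype_injective, h.card_four]⟩
    · rintro ⟨_, x, hx, rfl⟩ ⟨_, y, hy, rfl⟩
      exact Subtype.ext (congrArg (fun z : ↥U => ((z : ↥S) : G))
        ((IsKleinFour.isMulCommutative (G := U)).1.comm ⟨x, hx⟩ ⟨y, hy⟩))
    · rintro _ ⟨x, hx, rfl⟩
      rw [pow_two, ← map_mul, show x * x = 1 from
        congrArg Subtype.val (IsKleinFour.mul_self (⟨x, hx⟩ : U)), map_one]
  · rintro ⟨he, hc⟩
    rw [card_map_of_injective S.subtype_injective] at hc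
    refine ⟨hc, ?_⟩
    have hd : Monoid.exponent U ∣ 2 := Monoid.exponent_dvd_of_forall_pow_eq_one fun x =>
      Subtype.ext (Subtype.ext (by simpa using he.2 _ (mem_map_of_mem S.subtype x.2)))
    refine ((Nat.dvd_prime Nat.prime_two).1 hd).resolve_left fun h1 => ?_
    haveI := Monoid.exp_eq_one_iff.1 h1
    rw [Nat.card_unique] at hc
    omega

theorem linked_of_isFourConnected {S : Subgroup G} (h : Cfsg.IsFourConnected ↥S) : Linked S := by
  intro U V hU hV hU4 hV4
  have he : ∀ {W : Subgroup G}, W ≤ S → (W.subgroupOf S).map S.subtype = W := fun hW => by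
    rw [subgroupOf_map_subtype, inf_eq_left.2 hW]
  have h1 := h (U.subgroupOf S) (V.subgroupOf S) (klein_iff.2 (by rwa [he hU]))
    (klein_iff.2 (by rwa [he hV]))
  rw [← he hU, ← he hV]
  generalize V.subgroupOf S = V₀ at h1 ⊢
  induction h1 with
  | refl => exact .refl
  | tail _ h2 ih =>
    refine ih.tail ⟨klein_iff.1 h2.1, klein_iff.1 h2.2.1, map_subtype_le _, map_subtype_le _, ?_⟩
    rintro _ ⟨a, ha, rfl⟩ _ ⟨b, hb, rfl⟩
    rw [← map_mul, h2.2.2 a ha b hb, map_mul]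

theorem linked_top_of_isFourConnected (h : Cfsg.IsFourConnected G) : Linked (⊤ : Subgroup G) := by
  have hk : ∀ {U : Subgroup G}, Four U → IsKleinFour U := by
    rintro U ⟨he, hc⟩
    refine ⟨hc, ?_⟩
    have hd : Monoid.exponent U ∣ 2 := Monoid.exponent_dvd_of_forall_pow_eq_one fun x =>
      Subtype.ext (by simpa using he.2 _ x.2)
    refine ((Nat.dvd_prime Nat.prime_two).1 hd).resolve_left fun h1 => ?_
    haveI := Monoid.exp_eq_one_iff.1 h1
    rw [Nat.card_unique] at hc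
    omega
  have hk' : ∀ {U : Subgroup G}, IsKleinFour U → Four U := fun {U} hU =>
    ⟨⟨IsKleinFour.isMulCommutative, fun a ha => by
      rw [pow_two]; exact congrArg Subtype.val (IsKleinFour.mul_self (⟨a, ha⟩ : U))⟩, hU.card_four⟩
  intro U V _ _ hU hV
  refine Relation.ReflTransGen.mono ?_ _ _ (h U V (hk hU) (hk hV))
  exact fun A B hAB => ⟨hk' hAB.1, hk' hAB.2.1, le_top, le_top, hAB.2.2⟩

theorem four_map {U : Subgroup G} (hU : Four U) (g : G) :
    Four (U.map (MulAut.conj g).toMonoidHom) :=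
  ⟨H36.NilPPrime.elem_map hU.1 g, by rw [H39.card_map_conj, hU.2]⟩

/-- An elementary abelian subgroup of order at least 4 contains a four-group. -/
theorem exists_four_le {A : Subgroup G} (hA : Cfsg.IsElementaryAbelian 2 A) (h4 : 4 ≤ Nat.card A) :
    ∃ U ≤ A, Four U := by
  obtain ⟨K, hK⟩ := Sylow.exists_subgroup_card_pow_prime_of_le_card (n := 2) (p := 2) Nat.prime_two
    (H36.NilPPrime.elem_isPGroup hA) (by simpa using h4)
  refine ⟨K.map A.subtype, map_subtype_le _, H40.elemAb_mono hA (map_subtype_le _), ?_⟩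
  rw [card_map_of_injective A.subtype_injective, hK]; norm_num

theorem card_two_le_of_lt {A B : Subgroup G} (hB : IsPGroup 2 B) (h : A < B) :
    2 * Nat.card A ≤ Nat.card B := by
  obtain ⟨b, hb⟩ := IsPGroup.iff_card.1 hB
  obtain ⟨a, ha⟩ := IsPGroup.iff_card.1 (hB.to_le h.le)
  have hlt : Nat.card A < Nat.card B :=
    lt_of_le_of_ne (card_le_of_le h.le) fun e => h.ne (eq_of_le_of_card_ge h.le e.ge)
  rw [ha, hb] at hlt ⊢
  rw [← pow_succ']
  exact Nat.pow_le_pow_right two_pos ((Nat.pow_lt_pow_iff_right (by norm_num : 1 < 2)).1 hlt)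

theorem eight_le_sup {U V : Subgroup G} (hU : Four U) (hV : Four V)
    (hc : ∀ a ∈ U, ∀ b ∈ V, a * b = b * a) (hne : U ≠ V) : 8 ≤ Nat.card ↥(U ⊔ V) := by
  have hs := elementary_sup hU.1 hV.1 hc
  have h := card_two_le_of_lt (H36.NilPPrime.elem_isPGroup hs)
    (lt_of_le_of_ne (le_sup_left : U ≤ U ⊔ V) fun h =>
      hne (eq_of_le_of_card_ge (h ▸ le_sup_right : V ≤ U) (by rw [hU.2, hV.2])).symm)
  rw [hU.2] at h
  omega

/-- In a linked subgroup containing an elementary group of order 8, every four-group lies in one. -/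
theorem four_le_eight {S A : Subgroup G} (hS : Linked S) (hA : Cfsg.IsElementaryAbelian 2 A)
    (hA8 : 8 ≤ Nat.card A) (hAS : A ≤ S) {U : Subgroup G} (hU : Four U) (hUS : U ≤ S) :
    ∃ D, U ≤ D ∧ D ≤ S ∧ Cfsg.IsElementaryAbelian 2 D ∧ 8 ≤ Nat.card D := by
  obtain ⟨V, hVA, hV⟩ := exists_four_le hA (by omega)
  have h := hS U V hUS (hVA.trans hAS) hU hV
  clear hU hUS
  induction h using Relation.ReflTransGen.head_induction_on with
  | refl => exact ⟨A, hVA, hAS, hA, hA8⟩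
  | @head X Y hXY _ ih =>
    obtain ⟨hX, hY, hXS, hYS, hc⟩ := hXY
    by_cases he : X = Y
    · exact he ▸ ih
    · exact ⟨X ⊔ Y, le_sup_left, sup_le hXS hYS, elementary_sup hX.1 hY.1 hc,
        eight_le_sup hX hY hc he⟩

/-- An involution of a 2-group of rank at least 2 lies in a four-group of it. -/
theorem exists_four_mem {Q A : Subgroup G} (hQ : IsPGroup 2 Q) (hA : Cfsg.IsElementaryAbelian 2 A)
    (hA4 : 4 ≤ Nat.card A) (hAQ : A ≤ Q) {x : G} (hx : orderOf x = 2) (hxQ : x ∈ Q) :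
    ∃ U ≤ Q, x ∈ U ∧ Four U := by
  have hne : Q ≠ ⊥ := fun h => by
    have h1 := card_le_of_le hAQ
    rw [h, card_bot] at h1
    omega
  obtain ⟨z, hzQ, hzo, hzc⟩ := Components.exists_central_orderOf hQ hne
  have hsq : ∀ {a : G}, orderOf a = 2 → a ^ 2 = 1 := fun {a} ha => by rw [← ha, pow_orderOf_eq_one]
  have key : ∀ a b : G, orderOf a = 2 → orderOf b = 2 → a ∈ Q → b ∈ Q → a * b = b * a →
      b ∉ zpowers a → ∃ U ≤ Q, a ∈ U ∧ b ∈ U ∧ Four U := by
    intro a b ha hb haQ hbQ hab hnot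
    have hs := elementary_sup (elementary_zpowers (hsq ha)) (elementary_zpowers (hsq hb))
      fun c hc d hd => by
        obtain ⟨i, rfl⟩ := mem_zpowers_iff.1 hc
        obtain ⟨j, rfl⟩ := mem_zpowers_iff.1 hd
        exact ((show Commute a b from hab).zpow_zpow i j).eq
    refine ⟨_, sup_le (zpowers_le.2 haQ) (zpowers_le.2 hbQ), mem_sup_left (mem_zpowers a),
      mem_sup_right (mem_zpowers b), hs, ?_⟩
    have hlow := card_two_le_of_lt (H36.NilPPrime.elem_isPGroup hs)
      (lt_of_le_of_ne le_sup_left fun h => hnot (h.symm ▸ mem_sup_right (mem_zpowers b)))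
    rw [Nat.card_zpowers, ha] at hlow
    refine le_antisymm ?_ (by omega)
    have hset : ((zpowers a ⊔ zpowers b : Subgroup G) : Set G) = (zpowers a : Set G) * (zpowers b : Set G) :=
      coe_mul_of_left_le_normalizer_right _ _ ((zpowers_le.2 (centralizer_le_normalizer _
        (mem_centralizer_iff.2 fun d hd => by
          obtain ⟨j, rfl⟩ := mem_zpowers_iff.1 hd
          exact ((show Commute a b from hab).zpow_right j).eq.symm))))
    calc Nat.card ↥(zpowers a ⊔ zpowers b) = ((zpowers a : Set G) * (zpowers b : Set G)).ncard := by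
          rw [← hset, ← Nat.card_coe_set_eq]; rfl
      _ ≤ (zpowers a : Set G).ncard * (zpowers b : Set G).ncard := Set.natCard_mul_le
      _ = 4 := by
          rw [← Nat.card_coe_set_eq, ← Nat.card_coe_set_eq]
          show Nat.card (zpowers a) * Nat.card (zpowers b) = 4
          rw [Nat.card_zpowers, Nat.card_zpowers, ha, hb]
  by_cases hxz : x ∈ zpowers z
  · obtain ⟨a, haA, haz⟩ : ∃ a ∈ A, a ∉ zpowers z := SetLike.not_le_iff_exists.1 fun h => by
      have h1 := card_le_of_le h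
      rw [Nat.card_zpowers, hzo] at h1
      omega
    have ha1 : a ≠ 1 := fun h => haz (h ▸ one_mem _)
    have hao : orderOf a = 2 := orderOf_eq_prime (hA.2 a haA) ha1
    obtain ⟨U, hUQ, hzU, -, hU⟩ := key z a hzo hao hzQ (hAQ haA)
      (mem_centralizer_singleton_iff.1 (hzc (hAQ haA))).symm haz
    exact ⟨U, hUQ, (zpowers_le.2 hzU) hxz, hU⟩
  · obtain ⟨U, hUQ, -, hxU, hU⟩ := key z x hzo hx hzQ hxQ
      (mem_centralizer_singleton_iff.1 (hzc hxQ)).symm hxz
    exact ⟨U, hUQ, hxU, hU⟩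

theorem exists_eight_mem {S A : Subgroup G} (hSp : IsPGroup 2 S) (hS : Linked S)
    (hA : Cfsg.IsElementaryAbelian 2 A) (hA8 : 8 ≤ Nat.card A) (hAS : A ≤ S) {x : G}
    (hx : orderOf x = 2) (hxS : x ∈ S) :
    ∃ D ≤ S, x ∈ D ∧ Cfsg.IsElementaryAbelian 2 D ∧ 8 ≤ Nat.card D := by
  obtain ⟨U, hUS, hxU, hU⟩ := exists_four_mem hSp hA (by omega) hAS hx hxS
  obtain ⟨D, hUD, hDS, hD, hD8⟩ := four_le_eight hS hA hA8 hAS hU hUS
  exact ⟨D, hDS, hUD hxU, hD, hD8⟩

theorem good_of_mem {D : Subgroup G} (hD : Cfsg.IsElementaryAbelian 2 D) (hD8 : 8 ≤ Nat.card D)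
    {a : G} (ha : a ∈ D) (h1 : a ≠ 1) : Good 2 a :=
  ⟨orderOf_eq_prime (hD.2 a ha) h1, not_pRankLE_of_le
    (fun y hy => mem_centralizer_singleton_iff.2 (H36.NilPPrime.elem_comm hD hy ha)) hD (by simpa using hD8)⟩

variable {θ : G → Subgroup G}

theorem gen_eq_gen (hθ : IsBalancedFunctor θ) {D U : Subgroup G}
    (hD : Cfsg.IsElementaryAbelian 2 D) (hD8 : 8 ≤ Nat.card D) (hUD : U ≤ D) (hU4 : 4 ≤ Nat.card U) :
    gen θ U = gen θ D ∧ ¬ 2 ∣ Nat.card (gen θ U) := by
  have hs := isSolvableSignalizerFunctor (fun a ha => ⟨hθ.le_centralizer a ha, hθ.not_dvd a ha,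
      Cfsg.Agent.S0205.result (by
        rw [← Nat.not_even_iff_odd, even_iff_two_dvd]; exact hθ.not_dvd a ha)⟩)
    hθ.conj hθ.balance hD (by simpa using hD8)
  exact gen_eq hD (Signalizer.complete_hyp_of_closed (Signalizer.twoColourClosed 2) G D θ hD
    (by simpa using hD8) hs) (H40.elemAb_mono hD hUD) hUD (by simpa using hU4)

theorem gen_linked (hθ : IsBalancedFunctor θ) {S : Subgroup G} (hS : Linked S) {U V : Subgroup G}
    (hU : Four U) (hV : Four V) (hUS : U ≤ S) (hVS : V ≤ S) : gen θ U = gen θ V := by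
  have h := hS U V hUS hVS hU hV
  clear hV hVS
  induction h with
  | refl => rfl
  | @tail X Y _ hXY ih =>
    obtain ⟨hX, hY, -, -, hc⟩ := hXY
    by_cases he : X = Y
    · exact he ▸ ih
    · have hs := elementary_sup hX.1 hY.1 hc
      have h8 := eight_le_sup hX hY hc he
      rw [ih, (gen_eq_gen hθ hs h8 le_sup_left hX.2.ge).1, (gen_eq_gen hθ hs h8 le_sup_right hY.2.ge).1]

theorem le_gen {U : Subgroup G} {a : G} (ha : a ∈ U) (h1 : a ≠ 1) : θ a ≤ gen θ U :=
  le_iSup (fun y : {y : G // y ∈ U ∧ y ≠ 1} => θ y.1) ⟨a, ha, h1⟩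

theorem gen_map (hθ : IsBalancedFunctor θ) {U : Subgroup G} (hU : ∀ a ∈ U, a ≠ 1 → Good 2 a) (g : G) :
    gen θ (U.map (MulAut.conj g).toMonoidHom) = (gen θ U).map (MulAut.conj g).toMonoidHom := by
  refine le_antisymm (iSup_le ?_) ?_
  · rintro ⟨_, ⟨a, ha, rfl⟩, h1⟩
    have ha1 : a ≠ 1 := fun h => h1 (by rw [h, map_one])
    exact (hθ.conj a g (hU a ha ha1)).le.trans (map_mono (le_gen ha ha1))
  · rw [map_le_iff_le_comap]
    refine iSup_le fun a => ?_
    rw [← map_le_iff_le_comap, ← hθ.conj a.1 g (hU a.1 a.2.1 a.2.2)]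
    exact le_gen (mem_map_of_mem _ a.2.1)
      fun h => a.2.2 ((MulAut.conj g).injective (h.trans (map_one (MulAut.conj g)).symm))

theorem exists_eight (hrank : ¬ Cfsg.PRankLE 2 2 G) (S : Sylow 2 G) :
    ∃ A ≤ (S : Subgroup G), Cfsg.IsElementaryAbelian 2 A ∧ 8 ≤ Nat.card A := by
  have h' : ¬ Cfsg.PRankLE 2 2 ↥(⊤ : Subgroup G) := fun h => hrank fun B hB he => by
    have h1 := h (B.subgroupOf ⊤) ⟨⟨fun a b => Subtype.ext (Subtype.ext
      (by simpa using congrArg Subtype.val (hB.1.comm ⟨((a : ↥(⊤ : Subgroup G)) : G), a.2⟩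
        ⟨((b : ↥(⊤ : Subgroup G)) : G), b.2⟩)))⟩⟩ fun a ha => Subtype.ext (by simpa using he _ ha)
    rwa [Nat.card_congr (subgroupOfEquivOfLe le_top).toEquiv] at h1
  obtain ⟨A, -, hA, hA8⟩ := exists_elementary_of_not_pRankLE h'
  obtain ⟨g, hg⟩ := H39.exists_conj_le_sylow (H36.NilPPrime.elem_isPGroup hA) S
  refine ⟨A.map (MulAut.conj g).toMonoidHom, ?_, H36.NilPPrime.elem_map hA g, by
    rw [H39.card_map_conj]; simpa using hA8⟩
  rintro _ ⟨a, ha, rfl⟩
  exact hg a ha

/-- Connected four-group graph of `G`: the functor vanishes. -/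
theorem eq_bot_of_linked_top (hO : Cfsg.oddCore G = ⊥) (hrank : ¬ Cfsg.PRankLE 2 2 G)
    (hL : Linked (⊤ : Subgroup G)) (hθ : IsBalancedFunctor θ) {t : G} (ht : orderOf t = 2) :
    θ t = ⊥ := by
  obtain ⟨S, hS⟩ := (IsPGroup.of_card (n := 1) (by rw [Nat.card_zpowers, ht, pow_one]) :
    IsPGroup 2 (zpowers t)).exists_le_sylow
  obtain ⟨A, hAS, hA, hA8⟩ := exists_eight hrank S
  obtain ⟨U, -, htU, hU⟩ := exists_four_mem S.isPGroup' hA (by omega) hAS ht (hS (mem_zpowers t))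
  have hgood : ∀ V : Subgroup G, Four V → ∀ a ∈ V, a ≠ 1 → Good 2 a := by
    intro V hV a ha h1
    obtain ⟨D, hVD, -, hD, hD8⟩ := four_le_eight hL hA hA8 le_top hV le_top
    exact good_of_mem hD hD8 (hVD ha) h1
  obtain ⟨D, hUD, -, hD, hD8⟩ := four_le_eight hL hA hA8 le_top hU le_top
  have hodd := (gen_eq_gen hθ hD hD8 hUD hU.2.ge).2
  have hn : (gen θ U).Normal := ⟨fun w hw g => by
    rw [← gen_linked hθ hL (four_map hU g) hU le_top le_top, gen_map hθ (hgood U hU)]
    exact ⟨w, hw, rfl⟩⟩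
  have ht1 : t ≠ 1 := fun h => by rw [h, orderOf_one] at ht; omega
  exact le_bot_iff.1 ((le_gen htU ht1).trans ((Cores.le_oddCore (by
    rw [← Nat.not_even_iff_odd, even_iff_two_dvd]; exact hodd)).trans hO.le))

end Cfsg.Agent.H70.Balanced
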