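import Cfsg.Prelude.Def_Local
import Cfsg.Agent.H49.RankTwoEssential
import Cfsg.Agent.S0016
import Cfsg.Agent.H40.Generation
import Cfsg.Agent.Components.PLocal
import Cfsg.Agent.Fusion.SignalizerTrivial

/-!
A group of characteristic 2 containing an elementary abelian subgroup of order 8 has a four-group
in its 2-core.
-/

set_option autoImplicit false
set_option linter.unusedSectionVars false

namespace Cfsg.Agent.H70.Balanced

open Subgroup

universe u

local instance : Fact (Nat.Prime 2) := ⟨Nat.prime_two⟩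

theorem elementary_zpowers {G : Type u} [Group G] {x : G} (hx : x ^ 2 = 1) :
    Cfsg.IsElementaryAbelian 2 (zpowers x) := by
  refine ⟨inferInstance, fun y hy => ?_⟩
  obtain ⟨k, rfl⟩ := mem_zpowers_iff.1 hy
  rw [← zpow_natCast, ← zpow_mul, mul_comm, zpow_mul, zpow_natCast, hx, one_zpow]

/-- A 2-group without four-groups is generated, modulo squares, by two elements. -/
theorem card_frattini_quotient_le {R : Type u} [Group R] [Finite R] (hR : IsPGroup 2 R)
    (hno : ∀ E : Subgroup R, Cfsg.IsElementaryAbelian 2 E → Nat.card E < 4) :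
    Nat.card (R ⧸ frattini R) ≤ 4 := by
  have huniq : ∀ H K : Subgroup R, Nat.card H = 2 → Nat.card K = 2 → H = K := by
    have key : ∀ a b : R, orderOf a = 2 → orderOf b = 2 → a * b = b * a → a = b := by
      intro a b ha hb hab
      by_contra hne
      have he : ∀ {x : R}, orderOf x = 2 → x ^ 2 = 1 := fun {x} hx => by rw [← hx, pow_orderOf_eq_one]
      have h1 := Fusion.Signalizer.elementary_sup (elementary_zpowers (he ha))
        (elementary_zpowers (he hb)) fun x hx y hy => by
          obtain ⟨i, rfl⟩ := mem_zpowers_iff.1 hx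
          obtain ⟨j, rfl⟩ := mem_zpowers_iff.1 hy
          exact ((show Commute a b from hab).zpow_zpow i j).eq
      have h2 := hno _ h1
      have hlt : zpowers a < zpowers a ⊔ zpowers b := lt_of_le_of_ne le_sup_left fun h => by
        have hb' : b ∈ zpowers a := h ▸ mem_sup_right (mem_zpowers b)
        obtain ⟨i, hi⟩ := mem_zpowers_iff.1 hb'
        rcases Int.even_or_odd i with ⟨r, rfl⟩ | ⟨r, rfl⟩
        · rw [← two_mul, zpow_mul, zpow_two, ← pow_two, he ha, one_zpow] at hi
          rw [← hi, orderOf_one] at hb; omega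
        · rw [zpow_add_one, zpow_mul, zpow_two, ← pow_two, he ha, one_zpow, one_mul] at hi
          exact hne hi
      have h3 : Nat.card (zpowers a) < Nat.card ↥(zpowers a ⊔ zpowers b) :=
        lt_of_le_of_ne (card_le_of_le hlt.le) fun h => hlt.ne (eq_of_le_of_card_ge hlt.le h.ge)
      rw [Nat.card_zpowers, ha] at h3
      obtain ⟨k, hk⟩ := IsPGroup.iff_card.1 (hR.to_subgroup (zpowers a ⊔ zpowers b))
      rw [hk] at h2 h3
      have hk1 : 1 < k := (Nat.pow_lt_pow_iff_right (by norm_num : 1 < 2)).1 (by simpa using h3)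
      have hk2 : k < 2 := (Nat.pow_lt_pow_iff_right (by norm_num : 1 < 2)).1 (by simpa using h2)
      omega
    intro H K hH hK
    have hne : (⊤ : Subgroup R) ≠ ⊥ := fun h => by
      have := card_le_of_le (le_top : H ≤ ⊤)
      rw [hH, h, card_bot] at this; omega
    obtain ⟨z, -, hzo, hzc⟩ := Components.exists_central_orderOf (hR.to_subgroup ⊤) hne
    have hz : ∀ L : Subgroup R, Nat.card L = 2 → L = zpowers z := by
      intro L hL
      obtain ⟨x, hx⟩ := exists_prime_orderOf_dvd_card' (G := L) 2 (by rw [hL])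
      rw [← Subgroup.orderOf_coe] at hx
      have hxz : (x : R) = z := key _ _ hx hzo (mem_centralizer_singleton_iff.1 (hzc (mem_top _)))
      refine (eq_of_le_of_card_ge (zpowers_le.2 (hxz ▸ x.2)) ?_).symm
      rw [hL, Nat.card_zpowers, hzo]
    exact (hz H hH).trans (hz K hK).symm
  obtain ⟨a, b, hab⟩ : ∃ a b : R, ∀ q : R, ∃ i : ℤ, q = a ^ i ∨ q = b * a ^ i := by
    rcases Cfsg.Agent.S0016.result 2 hR huniq with hc | ⟨-, n, ⟨e⟩⟩
    · obtain ⟨g, hg⟩ := hc.exists_generator
      exact ⟨g, 1, fun q => (mem_zpowers_iff.1 (hg q)).elim fun i hi => ⟨i, Or.inl hi.symm⟩⟩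
    · haveI : NeZero (2 ^ n) := ⟨by positivity⟩
      haveI : NeZero (2 * 2 ^ n) := ⟨by positivity⟩
      refine ⟨e.symm (QuaternionGroup.a 1), e.symm (QuaternionGroup.xa 0), fun q => ?_⟩
      rcases hq : e q with i | i
      · refine ⟨(i.val : ℤ), Or.inl ?_⟩
        rw [zpow_natCast, ← map_pow, QuaternionGroup.a_one_pow, ZMod.natCast_zmod_val, ← hq,
          e.symm_apply_apply]
      · refine ⟨(i.val : ℤ), Or.inr ?_⟩
        rw [zpow_natCast, ← map_pow, ← map_mul, QuaternionGroup.a_one_pow, ZMod.natCast_zmod_val,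
          QuaternionGroup.xa_mul_a, zero_add, ← hq, e.symm_apply_apply]
  let f : Bool × Bool → R ⧸ frattini R := fun p =>
    (if p.1 then QuotientGroup.mk b else 1) * (if p.2 then QuotientGroup.mk a else 1)
  have ha2 : (QuotientGroup.mk a : R ⧸ frattini R) ^ 2 = 1 := H49.quot_pow hR _
  have hf : Function.Surjective f := fun v => by
    obtain ⟨q, rfl⟩ := QuotientGroup.mk_surjective v
    obtain ⟨i, hi⟩ := hab q
    rcases Int.even_or_odd i with ⟨r, rfl⟩ | ⟨r, rfl⟩ <;> rcases hi with rfl | rfl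
    · exact ⟨(false, false), by simp [f, ← two_mul, zpow_mul, zpow_two, ← pow_two, ha2]⟩
    · exact ⟨(true, false), by simp [f, ← two_mul, zpow_mul, zpow_two, ← pow_two, ha2]⟩
    · exact ⟨(false, true), by simp [f, zpow_add_one, zpow_mul, zpow_two, ← pow_two, ha2]⟩
    · exact ⟨(true, true), by simp [f, zpow_add_one, zpow_mul, zpow_two, ← pow_two, ha2]⟩
  simpa using Nat.card_le_card_of_surjective f hf

theorem exists_four_le_pCore {H : Type u} [Group H] [Finite H]
    (hc : centralizer (Cfsg.pCore 2 H : Set H) ≤ Cfsg.pCore 2 H) {F : Subgroup H}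
    (hF : Cfsg.IsElementaryAbelian 2 F) (hF8 : 8 ≤ Nat.card F) :
    ∃ E : Subgroup H, E ≤ Cfsg.pCore 2 H ∧ Cfsg.IsElementaryAbelian 2 E ∧ 4 ≤ Nat.card E := by
  by_contra hcon
  push Not at hcon
  set R := Cfsg.pCore 2 H with hR
  have hRp : IsPGroup 2 R := Cores.pCore_isPGroup
  let ψ : H →* MulAut R := MulAut.conjNormal
  let φ : H →* MulAut (↥R ⧸ frattini ↥R) := (H49.frattiniQuot ↥R).comp ψ
  have hK : IsPGroup 2 φ.ker := by
    intro k
    have hp := H49.isPGroup_ker hRp (φ.ker.map ψ)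
    obtain ⟨n, hn⟩ := hp ⟨⟨ψ k, mem_map_of_mem ψ k.2⟩, k.2⟩
    have h1 : ψ ((k : H) ^ 2 ^ n) = 1 := by
      rw [map_pow]
      have := congrArg (fun z => ((z : (φ.ker.map ψ)) : MulAut R)) (congrArg Subtype.val hn)
      simpa using this
    have h2 : (k : H) ^ 2 ^ n ∈ R := hc (mem_centralizer_iff.2 fun r hr => by
      have h3 : ((ψ ((k : H) ^ 2 ^ n) ⟨r, hr⟩ : R) : H) = r := by rw [h1]; rfl
      rw [MulAut.conjNormal_apply] at h3
      exact (mul_inv_eq_iff_eq_mul.1 h3).symm)
    obtain ⟨m, hm⟩ := hRp ⟨_, h2⟩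
    refine ⟨n + m, Subtype.ext ?_⟩
    have h4 : ((k : H) ^ 2 ^ n) ^ 2 ^ m = 1 := congrArg Subtype.val hm
    rw [SubmonoidClass.coe_pow, pow_add, pow_mul, h4]; rfl
  have hKR : φ.ker ≤ R := Cores.le_pCore hK
  set f := φ.comp F.subtype with hf
  have hker : Nat.card f.ker < 4 := by
    have h1 := hcon (f.ker.map F.subtype) (by
      rintro _ ⟨x, hx, rfl⟩
      exact hKR hx) (Cfsg.Agent.H40.elemAb_mono hF (map_subtype_le _))
    rwa [card_map_of_injective F.subtype_injective] at h1
  have hFp : IsPGroup 2 F := fun x => ⟨1, Subtype.ext (by simpa using hF.2 x x.2)⟩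
  obtain ⟨a, ha⟩ := IsPGroup.iff_card.1 (hFp.to_subgroup f.ker)
  obtain ⟨b, hb⟩ := IsPGroup.iff_card.1
    (hFp.of_surjective f.rangeRestrict f.rangeRestrict_surjective)
  have hab : 2 ^ 3 ≤ 2 ^ a * 2 ^ b := by
    have := f.ker.card_mul_index
    rw [Subgroup.index_ker, ha, hb] at this
    omega
  rw [← pow_add, Nat.pow_le_pow_iff_right (by norm_num)] at hab
  have ha2 : a < 2 := (Nat.pow_lt_pow_iff_right (by norm_num : 1 < 2)).1 (by rw [← ha]; simpa using hker)
  set V := ↥R ⧸ frattini ↥R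
  have hV : Nat.card V ≤ 4 := card_frattini_quotient_le hRp fun E hE => by
    have hE' : Cfsg.IsElementaryAbelian 2 (E.map R.subtype) := by
      refine ⟨⟨⟨?_⟩⟩, ?_⟩
      · rintro ⟨_, x, hx, rfl⟩ ⟨_, y, hy, rfl⟩
        exact Subtype.ext (congrArg (fun z : ↥E => ((z : ↥R) : H)) (hE.1.1.comm ⟨x, hx⟩ ⟨y, hy⟩))
      · rintro _ ⟨x, hx, rfl⟩
        rw [← map_pow, hE.2 x hx, map_one]
    have h1 := hcon _ (map_subtype_le E) hE'
    rwa [card_map_of_injective R.subtype_injective] at h1
  haveI : Finite (MulAut V) := H49.finite_mulAut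
  let P : MulAut V →* Equiv.Perm {v : V // v ≠ 1} :=
    { toFun := fun α => α.toEquiv.subtypeEquiv fun v => by simp
      map_one' := Equiv.ext fun v => rfl
      map_mul' := fun α β => Equiv.ext fun v => rfl }
  have hP : Function.Injective P := fun α β h => MulEquiv.ext fun v => by
    by_cases hv : v = 1
    · rw [hv, map_one, map_one]
    · exact congrArg Subtype.val (Equiv.congr_fun h ⟨v, hv⟩)
  have hdvd : 2 ^ b ∣ (Nat.card {v : V // v ≠ 1}).factorial := by
    rw [← Nat.card_perm, ← hb]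
    exact (Subgroup.card_subgroup_dvd_card f.range).trans (Subgroup.card_dvd_of_injective P hP)
  have hn : Nat.card {v : V // v ≠ 1} ≤ 3 := by
    have h1 : Nat.card {v : V // v ≠ 1} < Nat.card V :=
      Finite.card_subtype_lt (x := (1 : V)) (by simp)
    omega
  have h6 : (Nat.card {v : V // v ≠ 1}).factorial ∣ 6 := (Nat.factorial_dvd_factorial hn)
  have h4 : 4 ∣ 6 := ((pow_dvd_pow 2 (show 2 ≤ b by omega)).trans hdvd).trans h6
  norm_num at h4

end Cfsg.Agent.H70.Balanced
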