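import Cfsg.Agent.H70.Balanced.Sylow

/-!
When the involution centralizers are 2-constrained the cores of these centralizers vanish, given
that the core of a strongly embedded subgroup lies in the core of the group.
-/

set_option autoImplicit false
set_option linter.unusedSectionVars false

namespace Cfsg.Agent.H70.Balanced

open Subgroup Cfsg.Agent.Fusion.Signalizer
open scoped Pointwise
open Cfsg (centralizerPPrimeCore)

universe u

variable {G : Type u} [Group G] [Finite G]

local instance : Fact (Nat.Prime 2) := ⟨Nat.prime_two⟩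

theorem core_functor_of_balanced
    (hbal : ∀ a b : G, orderOf a = 2 → orderOf b = 2 → a * b = b * a →
      centralizerPPrimeCore 2 a ⊓ centralizer ({b} : Set G) ≤ centralizerPPrimeCore 2 b) :
    IsBalancedFunctor (fun a : G => centralizerPPrimeCore 2 a) :=
  ⟨fun a _ => H47.centralizerPPrimeCore_le a, fun a _ => H47.not_dvd_centralizerPPrimeCore a,
    fun a g _ => centralizerPPrimeCore_conj a g, fun a b ha hb hab => hbal a b ha.1 hb.1 hab⟩

theorem balanced_of_constrained
    (hcon : ∀ t : G, orderOf t = 2 → Cfsg.IsPConstrained 2 ↥(centralizer ({t} : Set G))) :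
    ∀ a b : G, orderOf a = 2 → orderOf b = 2 → a * b = b * a →
      centralizerPPrimeCore 2 a ⊓ centralizer ({b} : Set G) ≤ centralizerPPrimeCore 2 b :=
  fun a b ha hb hab => H40.balance_of_constrained ⟨1, by rw [pow_one, ← ha, pow_orderOf_eq_one]⟩ hab (hcon b hb)

/-- In a constrained group with an elementary 2-subgroup of order 8, a Sylow 2-subgroup of
`O_{2',2}` has a four-group, and the group is the product of its normalizer and the core. -/
theorem exists_frattini {C : Type u} [Group C] [Finite C] (hc : Cfsg.IsPConstrained 2 C)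
    {F : Subgroup C} (hF : Cfsg.IsElementaryAbelian 2 F) (hF8 : 8 ≤ Nat.card F) (T : Sylow 2 C) :
    ∃ Q U : Subgroup C, Q ≤ (T : Subgroup C) ∧ Four U ∧ U ≤ Q ∧
      normalizer (Q : Set C) ⊔ Cfsg.pPrimeCore 2 C = ⊤ := by
  set N := Cfsg.pPrimeCore 2 C with hN
  set π := QuotientGroup.mk' N
  set R := Cfsg.pCore 2 (C ⧸ N) with hR
  set P := R.comap π with hP
  have hNodd : ¬ 2 ∣ Nat.card N := Cores.not_dvd_card_pPrimeCore
  have hinj : ∀ {Q : Subgroup C}, IsPGroup 2 Q → ∀ x ∈ Q, π x = 1 → x = 1 := by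
    intro Q hQ x hx h1
    have hxN : x ∈ N := (QuotientGroup.eq_one_iff x).1 h1
    obtain ⟨k, hk⟩ := IsPGroup.iff_orderOf.1 hQ ⟨x, hx⟩
    rw [Subgroup.orderOf_mk] at hk
    have h2 := hk ▸ Subgroup.orderOf_dvd_natCard N hxN
    rcases Nat.eq_zero_or_pos k with rfl | hk0
    · exact orderOf_eq_one_iff.1 (by simpa using hk)
    · exact absurd ((dvd_pow_self 2 hk0.ne').trans h2) hNodd
  have hFp := H36.NilPPrime.elem_isPGroup hF
  have hFπ : Cfsg.IsElementaryAbelian 2 (F.map π) := by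
    refine ⟨⟨⟨?_⟩⟩, ?_⟩
    · rintro ⟨_, x, hx, rfl⟩ ⟨_, y, hy, rfl⟩
      refine Subtype.ext ?_
      show π x * π y = π y * π x
      rw [← map_mul, H36.NilPPrime.elem_comm hF hx hy, map_mul]
    · rintro _ ⟨x, hx, rfl⟩
      rw [← map_pow, hF.2 x hx, map_one]
  have hFπ8 : 8 ≤ Nat.card ↥(F.map π) := by
    rw [← Nat.card_congr (Equiv.ofBijective (fun x : F => (⟨π x, mem_map_of_mem π x.2⟩ : F.map π))
      ⟨fun a b hab => ?_, fun ⟨_, x, hx, rfl⟩ => ⟨⟨x, hx⟩, rfl⟩⟩)]
    · exact hF8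
    · have h2 : π a = π b := congrArg Subtype.val hab
      have h := hinj hFp ((a : C)⁻¹ * b) (mul_mem (inv_mem a.2) b.2) (by
        rw [map_mul, map_inv, h2, inv_mul_cancel])
      exact Subtype.ext (inv_mul_eq_one.1 h)
  obtain ⟨E, hER, hE, hE4⟩ := exists_four_le_pCore (Cores.isPConstrained_iff.1 hc) hFπ hFπ8
  obtain ⟨Q₀⟩ : Nonempty (Sylow 2 P) := inferInstance
  obtain ⟨c, hc'⟩ := H39.exists_conj_le_sylow (Q₀.isPGroup'.map P.subtype) T
  haveI : P.Normal := Normal.comap inferInstance _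
  set Q₁ : Sylow 2 P := (MulAut.conjNormal c : MulAut P) • Q₀ with hQ₁
  set Q := (Q₁ : Subgroup P).map P.subtype with hQ
  have hQT : Q ≤ (T : Subgroup C) := by
    rintro _ ⟨x, hx, rfl⟩
    have hx' : x ∈ (MulAut.conjNormal c : MulAut P) • (Q₀ : Subgroup P) := hx
    obtain ⟨y, hy, rfl⟩ := Set.mem_smul_set.1 (show x ∈ (((MulAut.conjNormal c : MulAut P) •
      (Q₀ : Subgroup P) : Subgroup P) : Set P) from hx')
    simpa [MulAut.conjNormal_apply] using hc' _ (mem_map_of_mem P.subtype hy)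
  have hQp : IsPGroup 2 Q := Q₁.isPGroup'.map _
  have hQP : Q ≤ P := map_subtype_le _
  have hNP : N ≤ P := fun x hx => by
    show π x ∈ R
    rw [show π x = 1 from (QuotientGroup.eq_one_iff x).2 hx]
    exact one_mem _
  have hsup : Q ⊔ N = P := by
    refine eq_of_le_of_card_ge (sup_le hQP hNP) (Nat.le_of_dvd Nat.card_pos ?_)
    have hcop : (Nat.card Q).Coprime (Nat.card N) := by
      obtain ⟨k, hk⟩ := IsPGroup.iff_card.1 hQp
      rw [hk]
      exact (Nat.prime_two.coprime_iff_not_dvd.2 hNodd).pow_left k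
    have hcard : Nat.card P = Nat.card N * Nat.card R := by
      have h1 := Subgroup.card_mul_index (N.subgroupOf P)
      rw [Nat.card_congr (subgroupOfEquivOfLe hNP).toEquiv] at h1
      rw [← h1]
      congr 1
      have h2 := Subgroup.relIndex_comap (f := π) (H := (⊥ : Subgroup (C ⧸ N))) (K := P)
      rw [MonoidHom.comap_bot, QuotientGroup.ker_mk', hP, map_comap_eq_self_of_surjective
        (QuotientGroup.mk'_surjective N), relIndex_bot_left] at h2
      exact h2
    obtain ⟨r, hr⟩ := IsPGroup.iff_card.1 (Cores.pCore_isPGroup : IsPGroup 2 R)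
    have hQd : 2 ^ r ∣ Nat.card Q := by
      rw [hQ, card_map_of_injective P.subtype_injective]
      exact Sylow.pow_dvd_card_of_pow_dvd_card Q₁ (by rw [hcard, hR, hr]; exact dvd_mul_left _ _)
    rw [hcard, hR, hr, mul_comm]
    exact Nat.Coprime.mul_dvd_of_dvd_of_dvd
      ((Nat.prime_two.coprime_iff_not_dvd.2 hNodd).pow_left r)
      (hQd.trans (card_dvd_of_le le_sup_left)) (card_dvd_of_le le_sup_right)
  have hmap : Q.map π = R := by
    have h1 : (Q ⊔ N).map π = R := by
      rw [hsup, hP, map_comap_eq_self_of_surjective (QuotientGroup.mk'_surjective N)]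
    rwa [Subgroup.map_sup, (Subgroup.map_eq_bot_iff N).2 (QuotientGroup.ker_mk' N).ge, sup_bot_eq] at h1
  -- the preimage of the four-group in `Q`
  set E' := Q ⊓ E.comap π with hE'
  have hE'e : Cfsg.IsElementaryAbelian 2 E' := by
    have hexp : ∀ a ∈ E', a ^ 2 = 1 := fun a ha =>
      hinj hQp _ (pow_mem ha.1 2) (by rw [map_pow]; exact hE.2 _ ha.2)
    refine ⟨⟨⟨fun a b => Subtype.ext ?_⟩⟩, hexp⟩
    show (a : C) * b = b * a
    have hi : ∀ v ∈ E', v⁻¹ = v := fun v hv =>
      inv_eq_of_mul_eq_one_right (by rw [← pow_two]; exact hexp v hv)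
    have h1 := hi _ (mul_mem a.2 b.2)
    rwa [mul_inv_rev, hi _ a.2, hi _ b.2, eq_comm] at h1
  have hE'4 : 4 ≤ Nat.card E' := by
    refine hE4.trans (Nat.card_le_card_of_surjective
      (fun x : E' => (⟨π x, x.2.2⟩ : E)) fun y => ?_)
    obtain ⟨q, hq, hqy⟩ := (hmap.ge (hER y.2) : (y : C ⧸ N) ∈ Q.map π)
    exact ⟨⟨q, hq, by show π q ∈ E; rw [hqy]; exact y.2⟩, Subtype.ext hqy⟩
  obtain ⟨U, hUE, hU⟩ := exists_four_le hE'e hE'4
  refine ⟨Q, U, hQT, hU, hUE.trans inf_le_left, top_le_iff.1 ?_⟩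
  rw [← Sylow.normalizer_sup_eq_top Q₁]
  refine sup_le le_sup_left (hsup.ge.trans (sup_le (Subgroup.le_normalizer.trans le_sup_left) le_sup_right))

variable {S : Sylow 2 G} {U₀ : Subgroup G}

/-- The centralizers of the involutions of `S` normalize the closure. -/
theorem Ctx.centralizer_le (c : Ctx (fun a : G => centralizerPPrimeCore 2 a) S U₀)
    (hcon : ∀ t : G, orderOf t = 2 → Cfsg.IsPConstrained 2 ↥(centralizer ({t} : Set G)))
    {x : G} (hxS : x ∈ (S : Subgroup G)) (hx : orderOf x = 2) :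
    centralizer ({x} : Set G) ≤ normalizer (gen (fun a : G => centralizerPPrimeCore 2 a) U₀ : Set G) := by
  set C := centralizer ({x} : Set G) with hC
  set W := gen (fun a : G => centralizerPPrimeCore 2 a) U₀
  obtain ⟨A, hAS, hA, hA8⟩ := exists_eight c.rank S
  obtain ⟨D, hDS, hxD, hD, hD8⟩ := exists_eight_mem S.isPGroup' c.linked hA hA8 hAS hx hxS
  have hDC : D ≤ C := fun d hd =>
    mem_centralizer_singleton_iff.2 (H36.NilPPrime.elem_comm hD hd hxD)
  have hDC' : Cfsg.IsElementaryAbelian 2 (D.subgroupOf C) :=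
    ⟨⟨⟨fun a b => Subtype.ext (Subtype.ext (H36.NilPPrime.elem_comm hD a.2 b.2))⟩⟩,
      fun a ha => Subtype.ext (by simpa using hD.2 _ ha)⟩
  obtain ⟨T, hT⟩ := (H36.NilPPrime.elem_isPGroup hDC').exists_le_sylow
  obtain ⟨Q, U, hQT, hU, hUQ, htop⟩ := exists_frattini (hcon x hx) hDC'
    (by rwa [Nat.card_congr (subgroupOfEquivOfLe hDC).toEquiv]) T
  have hU' : Four (U.map C.subtype) := by
    refine ⟨⟨⟨⟨?_⟩⟩, ?_⟩, by rw [card_map_of_injective C.subtype_injective, hU.2]⟩
    · rintro ⟨_, a, ha, rfl⟩ ⟨_, b, hb, rfl⟩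
      refine Subtype.ext ?_
      show C.subtype a * C.subtype b = C.subtype b * C.subtype a
      rw [← map_mul, H36.NilPPrime.elem_comm hU.1 ha hb, map_mul]
    · rintro _ ⟨a, ha, rfl⟩
      rw [← map_pow, hU.1.2 a ha, map_one]
  obtain ⟨V, hVD, hV⟩ := exists_four_le hD (by omega)
  have hVT : V ≤ (T : Subgroup C).map C.subtype := fun v hv =>
    ⟨⟨v, hDC (hVD hv)⟩, hT (hVD hv : (⟨v, hDC (hVD hv)⟩ : C) ∈ D.subgroupOf C), rfl⟩
  have hUT : U.map C.subtype ≤ (T : Subgroup C).map C.subtype := map_mono (hUQ.trans hQT)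
  have hgen : gen (fun a : G => centralizerPPrimeCore 2 a) (U.map C.subtype) = W := by
    rw [c.gen_const (T.isPGroup'.map _) hU' hV hUT hVT, c.gen_base hV (hVD.trans hDS)]
  have hQp : IsPGroup 2 Q := T.isPGroup'.to_le hQT
  have h1 : (normalizer (Q : Set C)).map C.subtype ≤ normalizer (W : Set G) :=
    (le_normalizer_map C.subtype).trans
      (by simpa using c.normalizer_le (hQp.map C.subtype) hU' (map_mono hUQ) hgen)
  have h2 : (Cfsg.pPrimeCore 2 C).map C.subtype ≤ normalizer (W : Set G) :=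
    (c.le_base hx hxS).trans Subgroup.le_normalizer
  intro y hy
  have h3 : y ∈ (normalizer (Q : Set C) ⊔ Cfsg.pPrimeCore 2 C).map C.subtype := by
    rw [htop]; exact ⟨⟨y, hy⟩, mem_top _, rfl⟩
  rw [Subgroup.map_sup] at h3
  exact sup_le h1 h2 h3

/-- Constrained involution centralizers and a connected Sylow 2-subgroup: the cores vanish. -/
theorem core_eq_bot_of_constrained (hO : Cfsg.oddCore G = ⊥) (hrank : ¬ Cfsg.PRankLE 2 2 G)
    (S : Sylow 2 G) (hS : Linked (S : Subgroup G))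
    (hcon : ∀ t : G, orderOf t = 2 → Cfsg.IsPConstrained 2 ↥(centralizer ({t} : Set G)))
    (hB : ∀ H : Subgroup G, Cfsg.IsStronglyEmbedded H →
      (Cfsg.oddCore ↥H).map H.subtype ≤ Cfsg.oddCore G)
    {t : G} (ht : orderOf t = 2) : centralizerPPrimeCore 2 t = ⊥ := by
  obtain ⟨U₀, c⟩ := exists_ctx hS hrank (core_functor_of_balanced (balanced_of_constrained hcon))
  exact c.eq_bot hO hB (fun x hxS hx => c.centralizer_le hcon hxS hx) ht

end Cfsg.Agent.H70.Balanced
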